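import Cfsg.Agent.EqLemmas

/-!
# The hexacode over an arbitrary field with four elements, by transfer to a table model

Main results: `mem_iff` (the hexacode is the image of the explicit table code `enc`),
`code_injective`, `hammingWeight_code`.
-/

set_option autoImplicit false

namespace Cfsg.Agent.Hexacode

/-- Table model of the field with four elements: `0, 1, 2 = ω, 3 = ω²`. -/
abbrev K : Type := Fin 4

/-- Addition in the table model. -/
def kAdd (a b : K) : K :=
  (![![0, 1, 2, 3], ![1, 0, 3, 2], ![2, 3, 0, 1], ![3, 2, 1, 0]] a) b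

/-- Multiplication in the table model. -/
def kMul (a b : K) : K :=
  (![![0, 0, 0, 0], ![0, 1, 2, 3], ![0, 2, 3, 1], ![0, 3, 1, 2]] a) b

/-- The systematic form of the hexacode: the word with first three coordinates `p, q, r`. -/
def enc (p q r : K) : Fin 6 → K :=
  ![p, q, r, kAdd (kAdd p q) r, kAdd (kAdd (kMul 3 p) (kMul 2 q)) r,
    kAdd (kAdd (kMul 2 p) (kMul 3 q)) r]

/-- The parity check of the systematic form. -/
def Mem (v : Fin 6 → K) : Prop :=
  v 3 = kAdd (kAdd (v 0) (v 1)) (v 2) ∧ v 4 = kAdd (kAdd (kMul 3 (v 0)) (kMul 2 (v 1))) (v 2) ∧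
    v 5 = kAdd (kAdd (kMul 2 (v 0)) (kMul 3 (v 1))) (v 2)

instance (v : Fin 6 → K) : Decidable (Mem v) := by unfold Mem; infer_instance

/-- The three generators of the definition of the hexacode, combined. -/
def gen (a b c : K) : Fin 6 → K := fun i =>
  kAdd (kAdd (kMul a (![2, 3, 3, 2, 3, 2] i)) (kMul b (![3, 2, 2, 3, 3, 2] i)))
    (kMul c (![3, 2, 3, 2, 2, 3] i))

theorem gen_eq_enc : ∀ a b c : K, ∀ i, gen a b c i = enc (gen a b c 0) (gen a b c 1) (gen a b c 2) i := by
  decide +kernel

theorem enc_eq_gen : ∀ p q r : K, ∀ i, enc p q r i =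
    gen (kAdd (kMul 2 p) (kMul 3 q)) (kAdd (kAdd (kMul 3 p) (kMul 3 q)) r) (kAdd q r) i := by
  decide +kernel

theorem mem_iff_enc (v : Fin 6 → K) : Mem v ↔ v = enc (v 0) (v 1) (v 2) := by
  constructor
  · rintro ⟨h3, h4, h5⟩; funext i; fin_cases i <;> simp [enc, ← h3, ← h4, ← h5]
  · intro h; exact ⟨congrFun h 3, congrFun h 4, congrFun h 5⟩

section
variable {F : Type*} [Field F] (ω : F)

/-- The map from the table model to the field. -/
def val (a : K) : F := ![0, 1, ω, ω ^ 2] a

variable {ω}
variable [Fintype F] (hF : Fintype.card F = 4) (hω : ω ^ 2 + ω + 1 = 0)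

include hF in
theorem two_eq_zero : (2 : F) = 0 := by
  have h : ((Fintype.card F : ℕ) : F) = 0 := Nat.cast_card_eq_zero F
  rw [hF] at h
  have h4 : (2 : F) * 2 = 0 := by push_cast at h; linear_combination h
  exact mul_self_eq_zero.1 h4

include hω in
theorem omega_cube : ω ^ 3 = 1 := by linear_combination (ω - 1) * hω

include hω in
theorem omega_ne_zero : ω ≠ 0 := by
  rintro rfl; simp at hω

include hF hω in
theorem omega_ne_one : ω ≠ 1 := by
  rintro rfl
  exact one_ne_zero (α := F) (by linear_combination hω - two_eq_zero hF)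

include hF hω in
theorem val_injective : Function.Injective (val ω) := by
  have h0 := omega_ne_zero hω
  have h1 := omega_ne_one hF hω
  have h2 : ω ^ 2 ≠ 1 := fun h => h1 (by linear_combination omega_cube hω - ω * h)
  have h3 : ω ≠ ω ^ 2 := fun h => h1 (mul_left_cancel₀ h0 (by linear_combination -h))
  intro a b h
  fin_cases a <;> fin_cases b <;>
    simp [val, h0, h1, h2, h3, pow_ne_zero, Ne.symm h0, Ne.symm h1, Ne.symm h2, Ne.symm h3,
      Ne.symm (pow_ne_zero 2 h0)] at h ⊢

include hF hω in
theorem val_bijective : Function.Bijective (val ω) :=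
  (Fintype.bijective_iff_injective_and_card _).2 ⟨val_injective hF hω, by simp [hF]⟩

include hF hω in
theorem val_mul (a b : K) : val ω (kMul a b) = val ω a * val ω b := by
  have h3 := omega_cube hω
  fin_cases a <;> fin_cases b <;>
    first
    | (show (_ : F) = _; simp [val, kMul]; done)
    | (simp [val, kMul]
       first
       | ring1
       | linear_combination h3
       | linear_combination -h3
       | linear_combination ω * h3
       | linear_combination -ω * h3)

include hF hω in
theorem val_add (a b : K) : val ω (kAdd a b) = val ω a + val ω b := by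
  have h2 := two_eq_zero hF
  fin_cases a <;> fin_cases b <;>
    first
    | (simp [val, kAdd]; done)
    | (simp [val, kAdd]
       first
       | ring1
       | linear_combination h2
       | linear_combination -h2
       | linear_combination ω * h2
       | linear_combination -ω * h2
       | linear_combination ω ^ 2 * h2
       | linear_combination -ω ^ 2 * h2
       | linear_combination hω - h2
       | linear_combination -hω + h2
       | linear_combination hω - ω * h2
       | linear_combination -hω + ω * h2
       | linear_combination hω - ω ^ 2 * h2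
       | linear_combination -hω + ω ^ 2 * h2)

/-- The code word with first three coordinates `p, q, r`, in the field. -/
def code (ω : F) (t : K × K × K) : Fin 6 → F := fun i => val ω (enc t.1 t.2.1 t.2.2 i)

include hF hω in
theorem val_gen (a b c : K) : (fun i => val ω (gen a b c i)) =
    val ω a • ![ω, ω ^ 2, ω ^ 2, ω, ω ^ 2, ω] + val ω b • ![ω ^ 2, ω, ω, ω ^ 2, ω ^ 2, ω]
      + val ω c • ![ω ^ 2, ω, ω ^ 2, ω, ω, ω ^ 2] := by
  funext i
  simp only [gen, val_add hF hω, val_mul hF hω, Pi.add_apply, Pi.smul_apply, smul_eq_mul]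
  fin_cases i <;> simp [val]

include hF hω in
theorem mem_iff (x : Fin 6 → F) : x ∈ Cfsg.hexacode F ω ↔ ∃ t, code ω t = x := by
  rw [Cfsg.hexacode, Submodule.mem_span_triple]
  constructor
  · rintro ⟨a, b, c, rfl⟩
    obtain ⟨a, rfl⟩ := (val_bijective hF hω).2 a
    obtain ⟨b, rfl⟩ := (val_bijective hF hω).2 b
    obtain ⟨c, rfl⟩ := (val_bijective hF hω).2 c
    refine ⟨(gen a b c 0, gen a b c 1, gen a b c 2), ?_⟩
    rw [← val_gen hF hω a b c]
    funext i
    simp only [code, ← gen_eq_enc]
  · rintro ⟨⟨p, q, r⟩, rfl⟩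
    refine ⟨val ω (kAdd (kMul 2 p) (kMul 3 q)), val ω (kAdd (kAdd (kMul 3 p) (kMul 3 q)) r),
      val ω (kAdd q r), ?_⟩
    rw [← val_gen hF hω]
    funext i
    simp only [code, enc_eq_gen p q r i]

include hF hω in
theorem code_injective : Function.Injective (code ω : K × K × K → Fin 6 → F) := by
  rintro ⟨p, q, r⟩ ⟨p', q', r'⟩ h
  have e := fun i => val_injective hF hω (congrFun h i)
  have e0 : p = p' := e 0
  have e1 : q = q' := e 1
  have e2 : r = r' := e 2
  rw [e0, e1, e2]

include hF hω in
theorem weight_code [DecidableEq F] (t : K × K × K) :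
    (Finset.univ.filter fun i => code ω t i ≠ 0).card =
      (Finset.univ.filter fun i => enc t.1 t.2.1 t.2.2 i ≠ 0).card := by
  refine congrArg Finset.card (Finset.ext fun i => ?_)
  rw [Finset.mem_filter, Finset.mem_filter]
  exact and_congr Iff.rfl ((val_injective hF hω).ne_iff' (show val ω (0 : K) = (0 : F) from rfl))

end

end Cfsg.Agent.Hexacode
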